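import Groth.Agent.Catenary.CM
import Groth.Agent.RegLocus.Basic
import Groth.Agent.InvGen.NormalDvd
import Groth.Agent.Catenary.Formula
import Groth.Prelude.Def_CAlg

/-!
# Finiteness of the sections outside a closed set of codimension two
-/

set_option autoImplicit false
set_option linter.style.haveILetI false
universe u

open IsLocalRing RingTheory.Sequence

namespace Groth.Agent.SectFinite

/-- In a Cohen–Macaulay ring the associated primes of a quotient by a regular sequence have height at most its length. -/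
theorem height_le_of_associated {R : Type u} [CommRing R] [LocCoh.IsCohenMacaulayRing R] {rs : List R}
    (hw : IsWeaklyRegular R rs) {P : Ideal R} (hP : IsAssociatedPrime P (R ⧸ Ideal.ofList rs)) :
    P.height ≤ (rs.length : ℕ∞) := by
  haveI := hP.isPrime
  obtain ⟨-, y, hy⟩ := isAssociatedPrime_iff.mp hP
  obtain ⟨y, rfl⟩ := Ideal.Quotient.mk_surjective y
  have hmem : ∀ b, b ∈ P ↔ b * y ∈ Ideal.ofList rs := fun b => by
    rw [hy, Submodule.mem_colon_singleton, Submodule.mem_bot, ← Ideal.Quotient.eq_zero_iff_mem, map_mul]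
    rfl
  have hle : Ideal.ofList rs ≤ P := fun b hb => (hmem b).mpr (Ideal.mul_mem_right _ _ hb)
  let T := Localization.AtPrime P
  haveI : LocCoh.IsCohenMacaulayLocalRing T := LocCoh.IsCohenMacaulayRing.isCohenMacaulayLocalRing_localization P
  let xs := rs.map (algebraMap R T)
  have hw' : IsWeaklyRegular T xs := hw.of_flat
  have hm : ∀ r ∈ xs, r ∈ maximalIdeal T := fun r hr => by
    obtain ⟨s, hs, rfl⟩ := List.mem_map.mp hr
    exact (IsLocalization.AtPrime.to_map_mem_maximal_iff T P s).mpr (hle (Ideal.subset_span hs))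
  haveI hcm := CMFlat.isCohenMacaulayLocalRing_quotient_ofList (List.replicate xs.length ⟨(), ()⟩) T xs (by simp) hw' hm
  let S := T ⧸ Ideal.ofList xs
  have hmap : Ideal.ofList xs = (Ideal.ofList rs).map (algebraMap R T) := (Ideal.map_ofList _ rs).symm
  let M := (maximalIdeal T).map (Ideal.Quotient.mk (Ideal.ofList xs))
  have hMm : M = maximalIdeal S := IsLocalRing.eq_maximalIdeal (Ideal.IsMaximal.map_of_surjective_of_ker_le
    Ideal.Quotient.mk_surjective (by rw [Ideal.mk_ker]; exact Ideal.span_le.mpr hm))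
  have hass : maximalIdeal S ∈ associatedPrimes S S := by
    refine isAssociatedPrime_iff.mpr ⟨inferInstance, Ideal.Quotient.mk _ (algebraMap R T y), ?_⟩
    refine ((maximalIdeal.isMaximal S).eq_of_le ?_ ?_)
    · intro h
      have h1 : (1 : S) ∈ (⊥ : Submodule S S).colon {Ideal.Quotient.mk _ (algebraMap R T y)} := h ▸ Submodule.mem_top
      rw [Submodule.mem_colon_singleton, one_smul, Submodule.mem_bot, Ideal.Quotient.eq_zero_iff_mem, hmap,
        IsLocalization.mem_map_algebraMap_iff P.primeCompl T] at h1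
      obtain ⟨⟨⟨a, ha⟩, ⟨s, hs⟩⟩, hx⟩ := h1
      rw [← map_mul, IsLocalization.eq_iff_exists P.primeCompl T] at hx
      obtain ⟨⟨c, hc⟩, hcx⟩ := hx
      have : c * s ∈ P := (hmem _).mpr (by
        rw [show c * s * y = c * a from by linear_combination hcx]
        exact Ideal.mul_mem_left _ _ ha)
      exact ((inferInstance : P.IsPrime).mem_or_mem this).elim hc hs
    · rw [← hMm, Ideal.map_le_iff_le_comap, ← Localization.AtPrime.map_eq_maximalIdeal, Ideal.map_le_iff_le_comap]
      intro b hb
      show Ideal.Quotient.mk _ (algebraMap R T b) ∈ (⊥ : Submodule S S).colon _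
      rw [Submodule.mem_colon_singleton, Submodule.mem_bot, smul_eq_mul, ← map_mul, ← map_mul, Ideal.Quotient.eq_zero_iff_mem, hmap]
      exact Ideal.mem_map_of_mem _ ((hmem b).mp hb)
  obtain ⟨e, he⟩ := SerreReg.exists_dim_nat S
  have h3 := CMSop.le_ringKrullDim_quotient_of_hasRegSeq e inferInstance (CMFlat.hasRegSeq_of_cm he) (maximalIdeal S) hass
  have hfield : ringKrullDim (S ⧸ maximalIdeal S) = 0 := by
    letI := Ideal.Quotient.field (maximalIdeal S)
    exact ringKrullDim_eq_zero_of_isField (Field.toIsField _)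
  rw [hfield] at h3
  have he0 : e = 0 := by exact_mod_cast (Nat.le_zero.mp (by exact_mod_cast h3))
  classical
  have h1 := ringKrullDim_le_ringKrullDim_quotient_add_card (R := T) xs.toFinset (fun x hx => by
    rw [IsLocalRing.ringJacobson_eq_maximalIdeal]; exact hm x (List.mem_toFinset.mp hx))
  rw [show Ideal.span (xs.toFinset : Set T) = Ideal.ofList xs from congrArg Ideal.span (by ext; simp), he, he0,
    IsLocalization.AtPrime.ringKrullDim_eq_height P T, Nat.cast_zero, zero_add] at h1
  have h2 : (P.height : ℕ∞) ≤ (xs.toFinset.card : ℕ∞) := by exact_mod_cast h1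
  exact h2.trans (Nat.cast_le.mpr (le_trans (List.toFinset_card_le xs) (by simp [xs])))

/-- An ideal whose primes are high enough contains an element regular modulo a regular sequence. -/
theorem exists_regular_next {R : Type u} [CommRing R] [LocCoh.IsCohenMacaulayRing R] {rs : List R}
    (hw : IsWeaklyRegular R rs) (I : Ideal R) (hI : ∀ P : Ideal R, P.IsPrime → I ≤ P → (rs.length : ℕ∞) < P.height) :
    ∃ x ∈ I, (∀ m : R ⧸ Ideal.ofList rs, x • m = 0 → m = 0) ∧ IsWeaklyRegular R (rs ++ [x]) := by
  let M := R ⧸ Ideal.ofList rs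
  have hfin : (associatedPrimes R M).Finite := associatedPrimes.finite R M
  have hnot : ¬ ((I : Set R) ⊆ ⋃ P ∈ (hfin.toFinset : Set (Ideal R)), (P : Set R)) := by
    rw [Ideal.subset_union_prime (⊥ : Ideal R) ⊥ (fun P hP _ _ => IsAssociatedPrime.isPrime (hfin.mem_toFinset.mp hP))]
    rintro ⟨P, hP, hle⟩
    have hP' : IsAssociatedPrime P M := hfin.mem_toFinset.mp hP
    exact (hI P hP'.isPrime hle).not_ge (height_le_of_associated hw hP')
  obtain ⟨x, hxI, hx⟩ := Set.not_subset.mp hnot
  simp only [Set.Finite.coe_toFinset, Set.mem_iUnion, SetLike.mem_coe, not_exists] at hx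
  have hreg : ∀ m : M, x • m = 0 → m = 0 := fun m hm => by
    by_contra hm0
    obtain ⟨P, hP, hle⟩ := exists_le_isAssociatedPrime_of_isNoetherianRing R m hm0
    exact hx P hP (hle (by rw [Submodule.mem_colon_singleton, Submodule.mem_bot]; exact hm))
  refine ⟨x, hxI, hreg, (isWeaklyRegular_append_iff R rs [x]).mpr ⟨hw, (isWeaklyRegular_cons_iff _ x []).mpr
    ⟨?_, IsWeaklyRegular.nil _ _⟩⟩⟩
  let e : M ≃ₗ[R] R ⧸ (Ideal.ofList rs • ⊤ : Submodule R R) :=
    Submodule.quotEquivOfEq _ _ (by rw [smul_eq_mul, Ideal.mul_top])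
  refine (e.isSMulRegular_congr x).mp (IsSMulRegular.of_right_eq_zero_of_smul hreg)

/-- A regular sequence inside a prime as long as its height. -/
theorem exists_regular_sequence {R : Type u} [CommRing R] [LocCoh.IsCohenMacaulayRing R] (Q : Ideal R) [Q.IsPrime] :
    ∀ c : ℕ, (c : ℕ∞) ≤ Q.height → ∃ rs : List R, IsWeaklyRegular R rs ∧ (∀ r ∈ rs, r ∈ Q) ∧ rs.length = c := by
  intro c
  induction c with
  | zero => exact fun _ => ⟨[], IsWeaklyRegular.nil R R, by simp, rfl⟩
  | succ c ih =>
    intro hc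
    obtain ⟨rs, hw, hmem, hlen⟩ := ih ((Nat.cast_le.mpr c.le_succ).trans hc)
    obtain ⟨x, hx, -, hwx⟩ := exists_regular_next hw Q fun P _ hQP => by
      refine lt_of_lt_of_le ?_ (hc.trans (Ideal.height_mono hQP))
      rw [hlen]; exact_mod_cast c.lt_succ_self
    exact ⟨rs ++ [x], hwx, fun r hr => (List.mem_append.mp hr).elim (hmem r) (fun h => by simp at h; exact h ▸ hx),
      by simp [hlen]⟩

/-- Sections outside `V(J)`. -/
def sect {B : Type u} [CommRing B] [IsDomain B] (J : Ideal B) : Subalgebra B (FractionRing B) where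
  carrier := {x | ∀ (p : Ideal B) [p.IsPrime], ¬ J ≤ p →
    ∃ s : B, s ∉ p ∧ ∃ a : B, algebraMap B (FractionRing B) a = algebraMap B (FractionRing B) s * x}
  mul_mem' := fun {x y} hx hy p _ hp => by
    obtain ⟨s, hs, a, ha⟩ := hx p hp
    obtain ⟨t, ht, b, hb⟩ := hy p hp
    exact ⟨s * t, fun h => ((inferInstance : p.IsPrime).mem_or_mem h).elim hs ht, a * b, by rw [map_mul, map_mul, ha, hb]; ring⟩
  add_mem' := fun {x y} hx hy p _ hp => by
    obtain ⟨s, hs, a, ha⟩ := hx p hp
    obtain ⟨t, ht, b, hb⟩ := hy p hp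
    exact ⟨s * t, fun h => ((inferInstance : p.IsPrime).mem_or_mem h).elim hs ht, a * t + b * s,
      by rw [map_add, map_mul, map_mul, map_mul, ha, hb]; ring⟩
  algebraMap_mem' := fun b p hp _ => ⟨1, fun h => hp.ne_top ((Ideal.eq_top_iff_one p).mpr h), b, by rw [map_one, one_mul]⟩

theorem exists_pow_mul {B : Type u} [CommRing B] [IsDomain B] {J : Ideal B} {x : FractionRing B}
    (hx : x ∈ sect J) {u : B} (hu : u ∈ J) :
    ∃ (n : ℕ) (a : B), algebraMap B (FractionRing B) a = algebraMap B (FractionRing B) (u ^ n) * x := by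
  let D : Ideal B := Submodule.comap (LinearMap.toSpanSingleton B (FractionRing B) x) (Submodule.span B {1})
  have hD : ∀ t, t ∈ D ↔ ∃ a : B, algebraMap B (FractionRing B) a = algebraMap B (FractionRing B) t * x := fun t => by
    simp [D, Submodule.mem_comap, Submodule.mem_span_singleton, Algebra.smul_def]
  by_contra hcon
  push Not at hcon
  obtain ⟨p, hp, hDp, hdisj⟩ := Ideal.exists_le_prime_disjoint D (Submonoid.powers u) (Set.disjoint_left.mpr fun d hd hdp => by
    obtain ⟨n, rfl⟩ := hdp
    obtain ⟨a, ha⟩ := (hD _).mp hd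
    exact hcon n a ha)
  obtain ⟨s, hs, a, ha⟩ := hx p fun h => Set.disjoint_left.mp hdisj (h hu) ⟨1, pow_one u⟩
  exact hs (hDp ((hD s).mpr ⟨a, ha⟩))

/-- Finiteness over a quotient of a Cohen–Macaulay ring. -/
theorem finite_sect_of_surjective {R B : Type u} [CommRing R] [LocCoh.IsCohenMacaulayRing R] [CommRing B] [IsDomain B]
    [Algebra R B] (hπ : Function.Surjective (algebraMap R B)) (J : Ideal B) (hJ : (2 : ℕ∞) ≤ J.height) :
    Module.Finite B (sect J) := by
  let Q := RingHom.ker (algebraMap R B)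
  haveI : Q.IsPrime := RingHom.ker_isPrime _
  obtain ⟨c, hc⟩ := ENat.ne_top_iff_exists.mp (Q.height_ne_top (Ideal.IsPrime.ne_top inferInstance))
  obtain ⟨rs, hw, hmem, hlen⟩ := exists_regular_sequence Q c hc.le
  let I := Ideal.ofList rs
  let M := R ⧸ I
  have hIQ : I ≤ Q := Ideal.span_le.mpr hmem
  have hQmin : Q ∈ I.minimalPrimes := by
    obtain ⟨P, hP, hPQ⟩ := Ideal.exists_minimalPrimes_le hIQ
    haveI := hP.1.1
    rcases eq_or_lt_of_le hPQ with rfl | hlt
    · exact hP
    · have h1 := Catenary.length_le_height hw P fun r hr => hP.1.2 (Ideal.subset_span hr)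
      have h2 := Ideal.height_strict_mono_of_isPrime hlt
      rw [← hc, hlen] at *
      exact absurd (h2.trans_le h1) (lt_irrefl _)
  have hQass : IsAssociatedPrime Q M := Module.associatedPrimes.minimalPrimes_annihilator_subset_associatedPrimes R M
    (by rwa [Ideal.annihilator_quotient])
  -- `E` is killed by `Q`, nonzero, and torsion free outside `Q`
  let E : Submodule R M :=
    { carrier := {m | ∀ r ∈ Q, r • m = 0}
      add_mem' := fun ha hb r hr => by rw [smul_add, ha r hr, hb r hr, add_zero]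
      zero_mem' := fun r _ => smul_zero r
      smul_mem' := fun c m hm r hr => by rw [smul_comm, hm r hr, smul_zero] }
  obtain ⟨-, y0, hy0⟩ := isAssociatedPrime_iff.mp hQass
  have hy0E : y0 ∈ E := fun r hr => by
    rw [hy0, Submodule.mem_colon_singleton, Submodule.mem_bot] at hr
    exact hr
  have hy00 : ∀ r, r • y0 = 0 → r ∈ Q := fun r hr => by
    rw [hy0, Submodule.mem_colon_singleton, Submodule.mem_bot]; exact hr
  -- regular elements in the preimage of `J`
  let J' := J.comap (algebraMap R B)
  have hJ' : ∀ P : Ideal R, P.IsPrime → J' ≤ P → ((c + 2 : ℕ) : ℕ∞) ≤ P.height := by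
    intro P hP hJP
    haveI := hP
    have hQP : Q ≤ P := le_trans (fun r hr => show algebraMap R B r ∈ J by rw [RingHom.mem_ker.mp hr]; exact zero_mem _) hJP
    haveI : (P.map (algebraMap R B)).IsPrime := Ideal.map_isPrime_of_surjective hπ hQP
    have hJle : J ≤ P.map (algebraMap R B) := by
      rw [← Ideal.map_comap_of_surjective _ hπ J]
      exact Ideal.map_mono hJP
    let e : R ⧸ Q ≃+* B := RingHom.quotientKerEquivOfSurjective hπ
    have hqm : (P.map (Ideal.Quotient.mk Q)).map e.toRingHom = P.map (algebraMap R B) := by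
      rw [Ideal.map_map]
      congr 1
    haveI : (P.map (Ideal.Quotient.mk Q)).IsPrime :=
      Ideal.map_isPrime_of_surjective Ideal.Quotient.mk_surjective (by rwa [Ideal.mk_ker])
    have h2 : (2 : ℕ∞) ≤ (P.map (Ideal.Quotient.mk Q)).height := by
      refine hJ.trans ((Ideal.height_mono hJle).trans (le_of_eq ?_))
      rw [← hqm]
      exact e.height_map _
    have h3 := RegLocus.height_add_height_quotient_le Q (P.map (Ideal.Quotient.mk Q))
    rw [Ideal.comap_map_of_surjective _ Ideal.Quotient.mk_surjective, ← RingHom.ker_eq_comap_bot, Ideal.mk_ker,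
      sup_eq_left.mpr hQP, ← hc] at h3
    exact (add_le_add le_rfl h2).trans h3 |>.trans' (by push_cast; rfl)
  obtain ⟨u, huJ, hureg, hwu⟩ := exists_regular_next hw J' fun P hP h =>
    lt_of_lt_of_le (by rw [hlen]; exact_mod_cast (show c < c + 2 by omega)) (hJ' P hP h)
  have huQ : u ∉ Q := fun h => by
    have h1 : y0 = 0 := hureg y0 (hy0E u h)
    exact (inferInstance : Q.IsPrime).ne_top ((Ideal.eq_top_iff_one _).mpr (hy00 1 (by rw [h1, smul_zero])))
  let K := FractionRing B
  have hpow : ∀ (N : Type u) [AddCommGroup N] [Module R N] (x : R), (∀ m : N, x • m = 0 → m = 0) →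
      ∀ (k : ℕ) (m : N), x ^ k • m = 0 → m = 0 := by
    intro N _ _ x hx k
    induction k with
    | zero => intro m hm; simpa using hm
    | succ j ihj => intro m hm; exact ihj m (hx _ (by rw [← mul_smul, ← pow_succ']; exact hm))
  let φ : R →+* K := (algebraMap B K).comp (algebraMap R B)
  have hφ : ∀ r, φ r = 0 ↔ r ∈ Q := fun r => by
    simp [φ, Q, RingHom.mem_ker]
  -- the defining relation
  let Rel : K → E → E → Prop := fun x e g => ∀ r a : R, φ a = φ r * x → r • (g : M) = a • (e : M)
  have hex : ∀ x ∈ sect J, ∀ e, ∃ g, Rel x e g := by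
    intro x hx e
    obtain ⟨n, a1, ha1⟩ := exists_pow_mul hx (u := algebraMap R B u) huJ
    obtain ⟨a, rfl⟩ := hπ a1
    let U := u ^ n
    have hU : φ a = φ U * x := by simp only [φ, RingHom.comp_apply, U, map_pow] at ha1 ⊢; exact ha1
    have hUreg : ∀ m : M, U • m = 0 → m = 0 := hpow M u hureg n
    have hwU : IsWeaklyRegular R (rs ++ [U]) := (isWeaklyRegular_append_iff R rs [U]).mpr ⟨hw, (isWeaklyRegular_cons_iff _ U []).mpr
      ⟨((Submodule.quotEquivOfEq _ _ (by rw [smul_eq_mul, Ideal.mul_top]) :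
        M ≃ₗ[R] R ⧸ (Ideal.ofList rs • ⊤ : Submodule R R)).isSMulRegular_congr U).mp
          (IsSMulRegular.of_right_eq_zero_of_smul hUreg), IsWeaklyRegular.nil _ _⟩⟩
    obtain ⟨v, hvJ, hvreg, -⟩ := exists_regular_next hwU J' fun P hP h =>
      lt_of_lt_of_le (by rw [List.length_append, hlen]; simp) (hJ' P hP h)
    obtain ⟨m, b1, hb1⟩ := exists_pow_mul hx (u := algebraMap R B v) hvJ
    obtain ⟨b, rfl⟩ := hπ b1
    let V := v ^ m
    have hV : φ b = φ V * x := by simp only [φ, RingHom.comp_apply, V, map_pow] at hb1 ⊢; exact hb1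
    have hkill : U * b - V * a ∈ Q := (hφ _).mp (by rw [map_sub, map_mul, map_mul, hU, hV]; ring)
    obtain ⟨e0, he0⟩ := Ideal.Quotient.mk_surjective (e : M)
    have h1 : V * (a * e0) - U * (b * e0) ∈ I := by
      have h2 := e.2 _ hkill
      rw [← he0, Algebra.smul_def, Ideal.Quotient.algebraMap_eq, ← map_mul, Ideal.Quotient.eq_zero_iff_mem] at h2
      have := neg_mem h2
      convert this using 1; ring
    -- `V` is regular modulo `I + (U)`
    have hVreg : ∀ z : R ⧸ Ideal.ofList (rs ++ [U]), V • z = 0 → z = 0 := hpow _ v hvreg m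
    have h3 : Ideal.Quotient.mk (Ideal.ofList (rs ++ [U])) (a * e0) = 0 := by
      refine hVreg _ ?_
      rw [Algebra.smul_def, Ideal.Quotient.algebraMap_eq, ← map_mul, Ideal.Quotient.eq_zero_iff_mem, Ideal.ofList_append,
        Ideal.ofList_singleton]
      have : V * (a * e0) = (V * (a * e0) - U * (b * e0)) + U * (b * e0) := by ring
      rw [this]
      exact Submodule.add_mem_sup h1 (Ideal.mul_mem_right _ _ (Ideal.mem_span_singleton_self U))
    rw [Ideal.Quotient.eq_zero_iff_mem, Ideal.ofList_append, Ideal.ofList_singleton, Submodule.mem_sup] at h3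
    obtain ⟨i, hi, w, hw', hiw⟩ := h3
    obtain ⟨g, rfl⟩ := Ideal.mem_span_singleton'.mp hw'
    have hg : U • (Ideal.Quotient.mk I g : M) = a • (e : M) := by
      rw [← he0, Algebra.smul_def, Algebra.smul_def, Ideal.Quotient.algebraMap_eq, ← map_mul, ← map_mul, Ideal.Quotient.eq]
      have : U * g - a * e0 = -i := by rw [← hiw]; ring
      rw [this]; exact neg_mem hi
    refine ⟨⟨Ideal.Quotient.mk I g, fun r hr => hUreg _ ?_⟩, fun r a' ha' => ?_⟩
    · rw [smul_comm, hg, smul_comm, e.2 r hr, smul_zero]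
    · have h4 : U * a' - r * a ∈ Q := (hφ _).mp (by rw [map_sub, map_mul, map_mul, hU, ha']; ring)
      refine sub_eq_zero.mp (hUreg _ ?_)
      have h5 := e.2 _ h4
      rw [sub_smul, mul_smul, mul_smul] at h5
      show U • (r • (Ideal.Quotient.mk I g : M) - a' • (e : M)) = 0
      rw [smul_sub, smul_comm U r, hg, ← neg_eq_zero, neg_sub, h5]
  have huniq : ∀ x ∈ sect J, ∀ e g g', Rel x e g → Rel x e g' → g = g' := by
    intro x hx e g g' hg hg'
    obtain ⟨n, a1, ha1⟩ := exists_pow_mul hx (u := algebraMap R B u) huJ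
    obtain ⟨a, rfl⟩ := hπ a1
    have hU : φ a = φ (u ^ n) * x := by simp only [φ, RingHom.comp_apply, map_pow] at ha1 ⊢; exact ha1
    have h1 := hpow M u hureg
    refine Subtype.ext (sub_eq_zero.mp (h1 n _ ?_))
    rw [smul_sub, hg _ _ hU, hg' _ _ hU, sub_self]
  choose F hF using hex
  -- common denominators
  have hden : ∀ x ∈ sect J, ∃ (r a : R), r ∉ Q ∧ φ a = φ r * x := fun x hx => by
    obtain ⟨n, a1, ha1⟩ := exists_pow_mul hx (u := algebraMap R B u) huJ
    obtain ⟨a, rfl⟩ := hπ a1
    exact ⟨u ^ n, a, fun h => huQ ((inferInstance : Q.IsPrime).mem_of_pow_mem n h), by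
      simp only [φ, RingHom.comp_apply, map_pow] at ha1 ⊢; exact ha1⟩
  have hcancel : ∀ r ∉ Q, ∀ g : E, r • (g : M) = 0 → g = 0 := by
    intro r hr g hg
    by_contra hg0
    obtain ⟨P, hP, hle⟩ := exists_le_isAssociatedPrime_of_isNoetherianRing R (g : M) fun h => hg0 (Subtype.ext h)
    haveI := hP.isPrime
    have hQP : Q ≤ P := fun q hq => hle (by rw [Submodule.mem_colon_singleton, Submodule.mem_bot]; exact g.2 q hq)
    have hlt : Q < P := lt_of_le_of_ne hQP fun h => hr (h.symm ▸ hle (by rw [Submodule.mem_colon_singleton, Submodule.mem_bot]; exact hg))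
    have := height_le_of_associated hw hP
    rw [hlen, hc] at this
    exact absurd ((Ideal.height_strict_mono_of_isPrime hlt).trans_le this) (lt_irrefl _)
  have hFadd : ∀ x (hx : x ∈ sect J) e e', F x hx (e + e') = F x hx e + F x hx e' := fun x hx e e' =>
    huniq x hx _ _ _ (hF x hx _) fun r a h => by
      rw [Submodule.coe_add, smul_add, hF x hx e r a h, hF x hx e' r a h, Submodule.coe_add, smul_add]
  have hFsmul : ∀ x (hx : x ∈ sect J) (t : R) e, F x hx (t • e) = t • F x hx e := fun x hx t e =>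
    huniq x hx _ _ _ (hF x hx _) fun r a h => by
      rw [Submodule.coe_smul, smul_comm, hF x hx e r a h, Submodule.coe_smul, smul_comm]
  let Φ : sect J → (E →ₗ[R] E) := fun x => { toFun := F x.1 x.2, map_add' := hFadd x.1 x.2, map_smul' := hFsmul x.1 x.2 }
  have hφalg : ∀ t, φ t = algebraMap R K t := fun t => (IsScalarTower.algebraMap_apply R B K t).symm
  have hΦadd : ∀ x x', Φ (x + x') = Φ x + Φ x' := fun x x' => LinearMap.ext fun e => by
    obtain ⟨r1, a1, hr1, h1⟩ := hden x.1 x.2
    obtain ⟨r2, a2, hr2, h2⟩ := hden x'.1 x'.2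
    have h3 : φ (a1 * r2 + a2 * r1) = φ (r1 * r2) * ((x + x' : sect J) : K) := by
      rw [Subalgebra.coe_add, map_add, map_mul, map_mul, map_mul, h1, h2]; ring
    refine sub_eq_zero.mp (hcancel (r1 * r2) (fun h => ((inferInstance : Q.IsPrime).mem_or_mem h).elim hr1 hr2) _ ?_)
    show (r1 * r2) • ((F _ (x + x').2 e : M) - ((F x.1 x.2 e : M) + (F x'.1 x'.2 e : M))) = 0
    rw [smul_sub, hF _ (x + x').2 e _ _ h3, smul_add, add_smul, mul_comm r1 r2, mul_smul r2 r1, hF x.1 x.2 e _ _ h1,
      mul_comm r2 r1, mul_smul r1 r2, hF x'.1 x'.2 e _ _ h2, mul_comm a1 r2, mul_comm a2 r1, mul_smul, mul_smul, sub_self]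
  have hΦsmul : ∀ (t : R) x, Φ (t • x) = t • Φ x := fun t x => LinearMap.ext fun e => by
    obtain ⟨r1, a1, hr1, h1⟩ := hden x.1 x.2
    have h3 : φ (t * a1) = φ r1 * ((t • x : sect J) : K) := by
      show φ (t * a1) = φ r1 * (t • (x : K))
      rw [Algebra.smul_def, map_mul, h1, ← hφalg]; ring
    refine sub_eq_zero.mp (hcancel r1 hr1 _ ?_)
    show r1 • ((F _ (t • x).2 e : M) - t • (F x.1 x.2 e : M)) = 0
    rw [smul_sub, hF _ (t • x).2 e _ _ h3, smul_comm, hF x.1 x.2 e _ _ h1, mul_smul, sub_self]
  let L : sect J →ₗ[R] (E →ₗ[R] E) := { toFun := Φ, map_add' := hΦadd, map_smul' := hΦsmul }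
  have hL : Function.Injective L := by
    rw [injective_iff_map_eq_zero]
    intro x hx
    obtain ⟨r1, a1, hr1, h1⟩ := hden x.1 x.2
    have h2 := hF x.1 x.2 ⟨y0, hy0E⟩ r1 a1 h1
    rw [show F x.1 x.2 ⟨y0, hy0E⟩ = 0 from LinearMap.congr_fun hx ⟨y0, hy0E⟩, Submodule.coe_zero, smul_zero] at h2
    have h3 : φ a1 = 0 := (hφ _).mpr (hy00 a1 h2.symm)
    rw [h3] at h1
    exact Subtype.ext ((mul_eq_zero.mp h1.symm).resolve_left fun h => hr1 ((hφ _).mp h))
  haveI : Module.Finite R (sect J) := Module.Finite.of_injective L hL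
  exact Module.Finite.of_restrictScalars_finite R B (sect J)

/-- Finiteness over a Japanese universally catenary domain. -/
theorem finite_sect_of_japanese {B : Type u} [CommRing B] [IsDomain B] [IsNoetherianRing B]
    (hcat : CAlg.IsUniversallyCatenary B) (hN : CAlg.IsN1 B) (J : Ideal B) (hJ : (2 : ℕ∞) ≤ J.height) :
    Module.Finite B (sect J) := by
  let K := FractionRing B
  let C := integralClosure B K
  haveI : Module.Finite B C := hN
  haveI : IsNoetherianRing C := IsNoetherianRing.of_finite B C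
  haveI : IsIntegrallyClosed C := integralClosure.isIntegrallyClosedOfFiniteExtension (R := B) K (L := K)
  have hsub : Subalgebra.toSubmodule (sect J) ≤ Subalgebra.toSubmodule C := by
    intro x hx
    show x ∈ C
    obtain ⟨b, s, hs, rfl⟩ := IsFractionRing.div_surjective B x
    have hs' : algebraMap B K s ≠ 0 := (map_ne_zero_iff _ (IsFractionRing.injective B K)).mpr (nonZeroDivisors.ne_zero hs)
    have hdvd : algebraMap B C s ∣ algebraMap B C b := by
      refine InvGen.dvd_of_forall_height_one (fun h => nonZeroDivisors.ne_zero hs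
        (IsFractionRing.injective B K (by rw [map_zero]; exact congrArg Subtype.val h))) fun P hP hP1 => ?_
      haveI := hP
      obtain ⟨t, ht, a, ha⟩ := hx (P.comap (algebraMap B C)) fun hle => by
        have h1 : (2 : ℕ∞) ≤ (P.comap (algebraMap B C)).height := hJ.trans (Ideal.height_mono hle)
        have h2 : (P.comap (algebraMap B C)).height ≤ 1 := by
          obtain ⟨a, c, ha, hc, hac⟩ := Catenary.exists_rel_dimension_formula (A := B) (⊥ : Ideal C) P bot_le
            (Catenary.isUniversallyCatenary_of_isLocalization (P.under B).primeCompl _ hcat)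
          have hb : (⊥ : Ideal C).under B = ⊥ := le_bot_iff.mp fun y hy => Ideal.mem_bot.mpr
            (IsFractionRing.injective B K (by rw [map_zero]; exact congrArg Subtype.val (Ideal.mem_bot.mp hy)))
          have h0 : ∀ (I : Ideal C) [I.IsPrime], Unibranch.rdim B I = 0 := fun I _ => by
            haveI : Algebra.IsIntegral (B ⧸ I.under B) (C ⧸ I) := ⟨fun z => by
              obtain ⟨z, rfl⟩ := Ideal.Quotient.mk_surjective z
              obtain ⟨f, hf, hev⟩ := Algebra.IsIntegral.isIntegral (R := B) z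
              refine ⟨f.map (Ideal.Quotient.mk _), hf.map _, ?_⟩
              rw [Polynomial.eval₂_map]
              have h := congrArg (Ideal.Quotient.mk I) hev
              rw [Polynomial.hom_eval₂, map_zero] at h
              exact h⟩
            haveI : FaithfulSMul (B ⧸ I.under B) (C ⧸ I) :=
              (faithfulSMul_iff_algebraMap_injective _ _).mpr (Unibranch.algebraMap_injective_quotient_under I)
            haveI : Nontrivial (B ⧸ I.under B) := Ideal.Quotient.nontrivial_iff.mpr (Ideal.IsPrime.ne_top inferInstance)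
            haveI : Algebra.IsAlgebraic (B ⧸ I.under B) (C ⧸ I) := ⟨fun z => (Algebra.IsIntegral.isIntegral z).isAlgebraic⟩
            rw [Unibranch.rdim, trdeg_eq_zero, map_zero]
          have hbot : ∀ {T : Type u} [CommRing T] (I P : Ideal T), I = ⊥ → (P.map (Ideal.Quotient.mk I)).height = P.height :=
            fun {T} _ I P hI => by subst hI; exact ((RingEquiv.quotientBot T).symm.height_map P)
          rw [hbot _ _ rfl, hP1] at ha
          rw [hbot _ _ hb] at hc
          rw [h0, h0, add_zero, add_zero] at hac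
          show (P.under B).height ≤ 1
          rw [hc, ← hac, ← ha]
        exact absurd (h1.trans h2) (by decide)
      refine ⟨algebraMap B C t, ht, algebraMap B C a, Subtype.ext ?_⟩
      show algebraMap B K t * algebraMap B K b = algebraMap B K s * algebraMap B K a
      rw [ha, ← mul_assoc, mul_comm (algebraMap B K s), mul_assoc, mul_div_cancel₀ _ hs']
    obtain ⟨w, hw⟩ := hdvd
    have : algebraMap B K b / algebraMap B K s = (w : K) := by
      rw [div_eq_iff hs', mul_comm]; exact congrArg Subtype.val hw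
    rw [this]; exact w.2
  haveI : IsNoetherian B C := isNoetherian_of_isNoetherianRing_of_finite B C
  exact Module.Finite.of_injective (Submodule.inclusion hsub) (Submodule.inclusion_injective hsub)

end Groth.Agent.SectFinite
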